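import Groth.Agent.CurveCohLib.PointTwist
import Groth.Agent.Lib.CurveSSVanish
import Groth.Agent.CurveCohLib.Clifford
import Groth.Agent.H23.Frame

/-!
Semistability of quotients of `O^N` is read off from sections of a fixed twist.
-/

set_option linter.style.haveILetI false
set_option linter.unusedSectionVars false
set_option backward.isDefEq.respectTransparency false
set_option backward.isDefEq.respectTransparency.types false
set_option synthInstance.maxHeartbeats 100000

noncomputable section

universe u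

open CategoryTheory CategoryTheory.Limits AlgebraicGeometry TopologicalSpace Opposite
open Groth.Agent.PnCoh.Finite (mapLin)

namespace Groth.Agent.SSTwist

open Groth.Agent.CurveBundle Groth.Agent.CurveSlope Groth.Agent.CurveStable Groth.Agent.CurveSpecial

variable {X : Scheme.{u}} (k : Type u) [Field k] [IsAlgClosed k] [X.Over (Spec (CommRingCat.of k))]
  [IsIntegral X] [IsProper (X ↘ Spec (CommRingCat.of k))] [Smooth (X ↘ Spec (CommRingCat.of k))]
  (hdim : topologicalKrullDim X = 1)
include hdim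

theorem euler_eq_dg (M : X.Modules) :
    Curv2.euler k X M = dg k M + (rk M : ℤ) * (1 - Curv2.genus k X) := by
  rw [dg, CurveRR.euler_structureModule k hdim.le]; ring

/-- A twist of a quotient of `O^N` by a line bundle of large degree has no first cohomology. -/
theorem subsingleton_h1_twist {F M : X.Modules} (hF : FlatMod.IsFinLocFree F) (hM : PicF.IsInvertible M)
    {N : ℕ} (q : FlatMod.freeMod X N ⟶ F) [Epi q]
    (hdeg : 2 * (Curv2.genus k X : ℤ) - 2 < Curv2.deg k X M 1) :
    Subsingleton (Coh.HH X ((DCoh.tensorBi.obj M).obj F) 1) := by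
  haveI := CurveCohLib.isNoetherian_of_proper (k := k) (X := X)
  obtain ⟨ω, μ, hω⟩ := CurveDuality.exists_isDualizing k hdim
  obtain ⟨-, -, hdω⟩ := CurveDuality.canonical_invariants k (CurveCohLib.Clifford.finrank_h0_structure k) hω hdim
  have hf := KFlatLib.isFinLocFree_tensor (isFinLocFree_of_rank (InvEnd.isFinLocFreeOfRank_one hM)) hF
  refine (CurveDuality.subsingleton_HH_one_iff k hω hdim hf).2 fun φ => ?_
  obtain ⟨D, hD, hdD, ⟨e⟩⟩ := CurveDuality.exists_inverse_deg k hdim hM
  have e' : (DCoh.tensorBi.obj D).obj M ≅ Coh.structureModule X := CurveTensor.commIso D M ≪≫ e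
  have hDω : PicF.IsInvertible ((DCoh.tensorBi.obj D).obj ω) := InvX.isInvertible_tensorMod hD hω.inv
  have hneg : Curv2.deg k X ((DCoh.tensorBi.obj D).obj ω) 1 < 0 := by
    rw [CurveRR.deg_tensor k hdim hD hω.inv, hdD, hdω]; omega
  refine CurveRR.eq_zero_of_map_eq_zero e φ ?_
  rw [← cancel_epi ((CurveRR.cancelIso e').inv.app F), comp_zero, ← cancel_epi q, comp_zero]
  rw [← Category.id_comp (q ≫ _ ≫ _), ← H23.Frame.total X N, Preadditive.sum_comp]
  refine Finset.sum_eq_zero fun i _ => ?_
  rw [Category.assoc]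
  refine (congrArg (H23.Frame.proj X N i ≫ ·) ?_).trans comp_zero
  by_contra hne
  have := (CurveDeg.deg_le_and_isIso k hdim.le CurveDeg.isInvertible_structureModule hDω _ hne).1
  rw [CurveDeg.deg_structureModule] at this
  omega

/-- Sections of subsheaves of a semistable bundle of large slope. -/
theorem h0_sub_le {T : X.Modules}
    (hss : ∀ (H : X.Modules) (j : H ⟶ T), Mono j → FlatMod.IsFinLocFree H →
      dg k H * (rk T : ℤ) ≤ dg k T * (rk H : ℤ))
    (hbig : (Curv2.genus k X : ℤ) * (rk T : ℤ) ≤ Curv2.euler k X T) :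
    ∀ (w : ℕ) (H : X.Modules) (j : H ⟶ T), Mono j → FlatMod.IsFinLocFree H → rk H = w →
      (Module.finrank k (Coh.HH X H 0) : ℤ) * rk T ≤ Curv2.euler k X T * w := by
  haveI := CurveCohLib.isNoetherian_of_proper (k := k) (X := X)
  obtain ⟨ω, μ, hω⟩ := CurveDuality.exists_isDualizing k hdim
  obtain ⟨hω0, -, -⟩ := CurveDuality.canonical_invariants k (CurveCohLib.Clifford.finrank_h0_structure k) hω hdim
  have hω1 := InvEnd.isFinLocFreeOfRank_one hω.inv
  intro w
  induction w using Nat.strong_induction_on with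
  | _ w ih =>
    intro H j hj hH hw
    haveI := hj
    have hHc := coh_of_free k hH
    by_cases h : ∀ φ : H ⟶ ω, φ = 0
    · haveI := (CurveDuality.subsingleton_HH_one_iff k hω hdim hH).2 h
      have h1 := hss H j hj hH
      have h2 := CurveRR.euler_eq_h0_sub_h1 k hdim.le hHc.1
      rw [Module.finrank_zero_of_subsingleton (M := Coh.HH X H 1), Nat.cast_zero, sub_zero,
        euler_eq_dg k hdim, hw] at h2
      rw [hw] at h1
      rw [← h2, euler_eq_dg k hdim T]
      linarith
    · push Not at h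
      obtain ⟨φ, hφ⟩ := h
      obtain ⟨I, π, i, hi, hπ, hfac, hK, hI, hr, -, hpos, hle⟩ :=
        exists_decomp k hdim.le hH (isFinLocFree_of_rank hω1) φ
      haveI := hi
      haveI := hπ
      have hI1 := hpos hφ
      rw [rk_eq hω1] at hle
      have h1 := ih (rk (kernel φ)) (by omega) (kernel φ) (kernel.ι φ ≫ j) inferInstance hK rfl
      let e : kernel φ ≅ kernel π := (kernelIsoOfEq hfac.symm).trans (kernelCompMono π i)
      have h2 := CurveDuality.finrank_h0_mid_le k (shortExact_kernel_of_epi π) hHc (coh_of_free k hI)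
      dsimp only at h2
      rw [← (CurveCohLib.hhEquiv (k := k) e 0).finrank_eq] at h2
      haveI := CurveCohLib.finite_HH (k := k) (coh_of_free k (isFinLocFree_of_rank hω1)) 0
      have h3 := LinearMap.finrank_le_finrank_of_injective
        (CurveCohLib.mapLin_f_zero_injective k (shortExact_cokernel_of_mono i))
      dsimp only at h3
      rw [hω0] at h3
      have h4 : (Module.finrank k (Coh.HH X H 0) : ℤ) ≤
          Module.finrank k (Coh.HH X (kernel φ) 0) + Curv2.genus k X := by omega
      have h5 : (w : ℤ) = rk (kernel φ) + 1 := by omega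
      rw [h5]
      nlinarith [mul_le_mul_of_nonneg_right h4 (Int.natCast_nonneg (rk T))]

theorem ss_twist {E N : X.Modules} (hE : FlatMod.IsFinLocFree E) (hN : PicF.IsInvertible N)
    (hss : ∀ (H : X.Modules) (j : H ⟶ E), Mono j → FlatMod.IsFinLocFree H →
      dg k H * (rk E : ℤ) ≤ dg k E * (rk H : ℤ))
    (G : X.Modules) (i : G ⟶ (DCoh.tensorBi.obj N).obj E) (hi : Mono i) (hG : FlatMod.IsFinLocFree G) :
    dg k G * (rk ((DCoh.tensorBi.obj N).obj E) : ℤ) ≤ dg k ((DCoh.tensorBi.obj N).obj E) * (rk G : ℤ) := by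
  haveI := CurveCohLib.isNoetherian_of_proper (k := k) (X := X)
  obtain ⟨D, hD, hdD, ⟨e⟩⟩ := CurveDuality.exists_inverse_deg k hdim hN
  have e' : (DCoh.tensorBi.obj D).obj N ≅ Coh.structureModule X := CurveTensor.commIso D N ≪≫ e
  haveI := hi
  have hDf := isFinLocFree_of_rank (InvEnd.isFinLocFreeOfRank_one hD)
  haveI : Mono ((DCoh.tensorBi.obj D).map i) :=
    (CurveTensor.shortExact_tensor hDf _ _ _ (shortExact_cokernel_of_mono i)).mono_f
  have h := hss _ ((DCoh.tensorBi.obj D).map i ≫ (CurveRR.cancelIso e').hom.app E) inferInstance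
    (KFlatLib.isFinLocFree_tensor hDf hG)
  obtain ⟨r1, d1⟩ := CurveDuality.dg_tensor_line k hdim hD hG
  obtain ⟨r2, d2⟩ := CurveDuality.dg_tensor_line k hdim hN hE
  rw [r1, d1, hdD] at h
  rw [r2, d2]
  nlinarith

/-- The degree of a tensor power. -/
theorem deg_tensorPow {L : X.Modules} (hL : PicF.IsInvertible L) :
    ∀ n : ℕ, Curv2.deg k X (CohB1.tensorPow L n) 1 = n * Curv2.deg k X L 1
  | 0 => by
    show Curv2.deg k X (Coh.structureModule X) 1 = _
    rw [CurveDeg.deg_structureModule]
    simp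
  | n + 1 => by
    show Curv2.deg k X ((DCoh.tensorBi.obj (CohB1.tensorPow L n)).obj L) 1 = _
    rw [CurveRR.deg_tensor k hdim (InvX.isInvertible_tensorPow hL n) hL, deg_tensorPow hL n]
    push_cast
    ring

set_option maxHeartbeats 1600000 in
/-- Ample modules have positive degree. -/
theorem deg_pos_of_isAmple {L : X.Modules} (hL : CohB1.IsAmple L) : 0 < Curv2.deg k X L 1 := by
  haveI := CurveCohLib.isNoetherian_of_proper (k := k) (X := X)
  haveI : X.IsSeparated := ⟨by
    rw [← Limits.terminal.comp_from (X ↘ Spec (CommRingCat.of k))]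
    infer_instance⟩
  obtain ⟨S, hS, hcl⟩ := CurveSection.exists_closed_finset k (X := X) hdim 1
  obtain ⟨p, hp⟩ := Finset.card_pos.1 (show 0 < S.card by omega)
  have hI := CurvePoint.isInvertible_ptMod p (hcl p hp) k hdim
  have hIc := CurvePoint.isCoh_ptMod p (hcl p hp) k
  obtain ⟨n₀, hn₀⟩ := AmpleX.eventually_isGloballyGenerated hL hIc.1 (QCoh.isFT_of_isFP (QCoh.isCoh_iff_isFP.1 hIc))
  set n := n₀ + 1
  have hT : PicF.IsInvertible (CohB1.tensorMod (CurvePoint.ptMod p (hcl p hp)) (CohB1.tensorPow L n)) :=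
    InvX.isInvertible_tensorMod hI (InvX.isInvertible_tensorPow hL.1 n)
  have hne : Module.finrank k (Coh.HH X (CohB1.tensorMod (CurvePoint.ptMod p (hcl p hp)) (CohB1.tensorPow L n)) 0) ≠ 0 := by
    intro h0
    haveI := CurveCohLib.finite_HH (k := k) (coh_of_free k (isFinLocFree_of_rank (InvEnd.isFinLocFreeOfRank_one hT))) 0
    haveI := (Module.finrank_zero_iff (R := k)).1 h0
    have h1 := CurveCohLib.PointTwist.eq_zero_of_gg k (hn₀ n (Nat.le_succ n₀)) (𝟙 _) fun t => Subsingleton.elim _ _
    have h2 := rk_eq (InvEnd.isFinLocFreeOfRank_one hT)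
    rw [rk_eq_zero_of_isZero ((IsZero.iff_id_eq_zero _).2 h1)] at h2
    omega
  obtain ⟨s, hs⟩ := CurveRR.exists_hom_ne_zero k hne
  have h := (CurveDeg.deg_le_and_isIso k hdim.le CurveDeg.isInvertible_structureModule hT s hs).1
  have hd : Curv2.deg k X (CohB1.tensorMod (CurvePoint.ptMod p (hcl p hp)) (CohB1.tensorPow L n)) 1 =
      -1 + n * Curv2.deg k X L 1 :=
    (CurveRR.deg_tensor k hdim hI (InvX.isInvertible_tensorPow hL.1 n)).trans
      (by rw [CurvePoint.deg_ptMod p (hcl p hp) k, deg_tensorPow k hdim hL.1])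
  rw [CurveDeg.deg_structureModule, hd] at h
  nlinarith [Int.natCast_nonneg n]

set_option maxHeartbeats 800000 in
/-- The criterion. -/
theorem iff_h0 {L : X.Modules} (hL : PicF.IsInvertible L) (hdL : 0 < Curv2.deg k X L 1) {r N : ℕ}
    (hr : 0 < r) {F : X.Modules} (q : FlatMod.freeMod X N ⟶ F) [Epi q]
    (hF : FlatMod.IsFinLocFreeOfRank r F) :
    ModFun.IsSlopeSemistable k X F r ↔
      ∀ (F' : X.Modules) (r' : ℕ) (i : F' ⟶ F), Mono i → 0 < r' → FlatMod.IsFinLocFreeOfRank r' F' →
        (Module.finrank k (Coh.HH X (ShStab.twist X L F' (2 * Curv2.genus k X + 1)) 0) : ℚ) / (r' : ℚ) ≤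
          (Module.finrank k (Coh.HH X (ShStab.twist X L F (2 * Curv2.genus k X + 1)) 0) : ℚ) / (r : ℚ) := by
  haveI := CurveCohLib.isNoetherian_of_proper (k := k) (X := X)
  set g := Curv2.genus k X with hg
  set M := CohB1.tensorPow L (2 * g + 1)
  have hM : PicF.IsInvertible M := InvX.isInvertible_tensorPow hL _
  have hdM : (2 * (g : ℤ) + 1) ≤ Curv2.deg k X M 1 := by
    rw [deg_tensorPow k hdim hL]
    push_cast
    nlinarith [Int.natCast_nonneg g]
  have hMf := isFinLocFree_of_rank (InvEnd.isFinLocFreeOfRank_one hM)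
  have hFf := isFinLocFree_of_rank hF
  haveI hT1 := subsingleton_h1_twist k hdim hFf hM q (by omega)
  obtain ⟨rT, dT⟩ := CurveDuality.dg_tensor_line k hdim hM hFf
  rw [rk_eq hF] at rT dT
  have hTc := coh_of_free k (KFlatLib.isFinLocFree_tensor hMf hFf)
  have hT0 : (Module.finrank k (Coh.HH X ((DCoh.tensorBi.obj M).obj F) 0) : ℤ) =
      dg k F + r * (Curv2.deg k X M 1 + (1 - g)) := by
    have h := CurveRR.euler_eq_h0_sub_h1 k hdim.le hTc.1
    rw [Module.finrank_zero_of_subsingleton (M := Coh.HH X ((DCoh.tensorBi.obj M).obj F) 1), euler_eq_dg k hdim,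
      dT, rT] at h
    push_cast at h
    linarith
  have hnum : ∀ (G : X.Modules), Module.finrank k (Coh.HH X (ShStab.twist X L G (2 * g + 1)) 0) =
      Module.finrank k (Coh.HH X ((DCoh.tensorBi.obj M).obj G) 0) := fun G =>
    (CurveCohLib.hhEquiv (k := k) (CurveTensor.commIso G M) 0).finrank_eq
  have hq : ∀ a b c d : ℕ, 0 < b → 0 < d → ((a : ℚ) / b ≤ (c : ℚ) / d ↔ (a : ℤ) * d ≤ (c : ℤ) * b) := by
    intro a b c d hb hd
    rw [div_le_div_iff₀ (by exact_mod_cast hb) (by exact_mod_cast hd)]
    exact_mod_cast Iff.rfl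
  constructor
  · intro hss F' r' i hi hr' hF'
    haveI := hi
    rw [hnum, hnum, hq _ _ _ _ hr' hr]
    have hss' : ∀ (H : X.Modules) (j : H ⟶ F), Mono j → FlatMod.IsFinLocFree H →
        dg k H * (rk F : ℤ) ≤ dg k F * (rk H : ℤ) := by
      intro H j hj hH
      rcases Nat.eq_zero_or_pos (rk H) with h0 | h0
      · rw [dg_eq_zero_of_isZero k (isZero_of_rk_zero hH h0), h0]; simp
      · have h := hss H _ j hj h0 (isFinLocFreeOfRank_rk hH)
        rwa [deg_eq_dg k (isFinLocFreeOfRank_rk hH), deg_eq_dg k hF, ← rk_eq hF] at h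
    have hd0 : 0 ≤ dg k F := by
      obtain ⟨a, ha⟩ : ∃ a, H23.Frame.incl X N a ≫ q ≠ 0 := by
        by_contra hcon
        push Not at hcon
        have hq0 : q = 0 := Sigma.hom_ext (f := fun _ : Fin N => Coh.structureModule X) _ _ fun a =>
          (hcon a).trans comp_zero.symm
        have hz : IsZero F := by
          rw [IsZero.iff_id_eq_zero, ← cancel_epi q, hq0]; simp
        have := rk_eq hF
        rw [rk_eq_zero_of_isZero hz] at this
        omega
      have hO1 := InvEnd.isFinLocFreeOfRank_one (CurveDeg.isInvertible_structureModule (X := X))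
      haveI := CurveSection.mono_of_ne_zero k hdim.le (isFinLocFree_of_rank hO1) (rk_eq hO1) hFf _ ha
      have h := hss' _ (H23.Frame.incl X N a ≫ q) inferInstance (isFinLocFree_of_rank hO1)
      rw [rk_eq hO1, ← deg_eq_dg k hO1, CurveDeg.deg_structureModule] at h
      simpa using h
    have hF'f := isFinLocFree_of_rank hF'
    haveI : Mono ((DCoh.tensorBi.obj M).map i) :=
      (CurveTensor.shortExact_tensor hMf _ _ _ (shortExact_cokernel_of_mono i)).mono_f
    have h1 := h0_sub_le k hdim (ss_twist k hdim hFf hM hss') (by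
        rw [euler_eq_dg k hdim, dT, rT, ← hg]
        nlinarith [mul_le_mul_of_nonneg_left hdM (Int.natCast_nonneg r)])
      _ _ ((DCoh.tensorBi.obj M).map i) inferInstance (KFlatLib.isFinLocFree_tensor hMf hF'f) rfl
    obtain ⟨r1, -⟩ := CurveDuality.dg_tensor_line k hdim hM hF'f
    rw [rT, r1, rk_eq hF', euler_eq_dg k hdim, dT, rT] at h1
    rw [hT0]
    linarith
  · intro h F' r' i hi hr' hF'
    haveI := hi
    have h1 := h F' r' i hi hr' hF'
    rw [hnum, hnum, hq _ _ _ _ hr' hr, hT0] at h1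
    have hF'f := isFinLocFree_of_rank hF'
    have hc := coh_of_free k (KFlatLib.isFinLocFree_tensor hMf hF'f)
    obtain ⟨r1, d1⟩ := CurveDuality.dg_tensor_line k hdim hM hF'f
    have h2 := euler_le_h0 k hdim.le hc
    rw [euler_eq_dg k hdim, d1, r1, rk_eq hF'] at h2
    rw [deg_eq_dg k hF, deg_eq_dg k hF']
    nlinarith [mul_le_mul_of_nonneg_right h2 (Int.natCast_nonneg r)]

end Groth.Agent.SSTwist
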